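import Cfsg.Agent.L33Graph.Checks

/-!
The automorphism group of the graph on the 52 flags has order at most 11232.
-/

set_option autoImplicit false

namespace Cfsg.Agent.L33Graph

/-- The automorphisms of the flag graph. -/
def flagAut : Subgroup (Equiv.Perm (Fin 52)) where
  carrier := {π | ∀ a b : Fin 52, adj (π a).val (π b).val = adj a.val b.val}
  one_mem' := fun _ _ => rfl
  mul_mem' := fun {π ρ} hπ hρ a b => (hπ (ρ a) (ρ b)).trans (hρ a b)
  inv_mem' := fun {π} hπ a b => by
    have := hπ (π⁻¹ a) (π⁻¹ b)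
    simpa using this.symm

theorem near_iff (i j : Fin 52) :
    near i.val j.val = true ↔ ∃ k : Fin 52, adj i.val k.val = true ∧ adj k.val j.val = true := by
  have h := List.all_eq_true.1 (List.all_eq_true.1 chk_near i.val (List.mem_range.2 i.2)) j.val
    (List.mem_range.2 j.2)
  rw [beq_iff_eq.1 h, List.any_eq_true]
  constructor
  · rintro ⟨k, hk, hk'⟩
    rw [Bool.and_eq_true] at hk'
    exact ⟨⟨k, List.mem_range.1 hk⟩, hk'⟩
  · rintro ⟨k, hk1, hk2⟩
    exact ⟨k.val, List.mem_range.2 k.2, by rw [hk1, hk2]; rfl⟩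

theorem near_map {π : Equiv.Perm (Fin 52)} (hπ : π ∈ flagAut) (a b : Fin 52) :
    near (π a).val (π b).val = near a.val b.val := by
  rw [Bool.eq_iff_iff, near_iff, near_iff]
  constructor
  · rintro ⟨k, h1, h2⟩
    refine ⟨π⁻¹ k, ?_, ?_⟩
    · rw [← hπ a (π⁻¹ k)]; simpa using h1
    · rw [← hπ (π⁻¹ k) b]; simpa using h2
  · rintro ⟨k, h1, h2⟩
    exact ⟨π k, by rw [hπ a k]; exact h1, by rw [hπ k b]; exact h2⟩

/-- The automorphisms fixing the members of a list. -/
def fixList (l : List ℕ) : Subgroup (Equiv.Perm (Fin 52)) where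
  carrier := {π | π ∈ flagAut ∧ ∀ a : Fin 52, a.val ∈ l → π a = a}
  one_mem' := ⟨one_mem _, fun _ _ => rfl⟩
  mul_mem' := fun {π ρ} hπ hρ => ⟨mul_mem hπ.1 hρ.1, fun a ha => by
    rw [Equiv.Perm.mul_apply, hρ.2 a ha, hπ.2 a ha]⟩
  inv_mem' := fun {π} hπ => ⟨inv_mem hπ.1, fun a ha => by
    rw [Equiv.Perm.inv_eq_iff_eq, hπ.2 a ha]⟩

theorem card_fixList (l : List ℕ) : ∀ pre : List ℕ, (∀ i ∈ l, i < 52) →
    (∀ i ∈ pre, i < 52) → (∀ i : Fin 52, i.val ∈ pre ∨ i.val ∈ l) →
      Nat.card (fixList pre) ≤ prodCand pre l := by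
  induction l with
  | nil =>
    intro pre _ _ hall
    have : Subsingleton (fixList pre) := by
      refine ⟨fun π ρ => Subtype.ext (Equiv.ext fun a => ?_)⟩
      rcases hall a with h | h
      · rw [π.2.2 a h, ρ.2.2 a h]
      · exact absurd h List.not_mem_nil
    exact Finite.card_le_one_iff_subsingleton.2 this
  | cons b l ih =>
    intro pre hl hpre hall
    have hb : b < 52 := hl b List.mem_cons_self
    let bb : Fin 52 := ⟨b, hb⟩
    have hih := ih (b :: pre) (fun i hi => hl i (List.mem_cons_of_mem _ hi))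
      (by
        intro i hi
        rcases List.mem_cons.1 hi with rfl | h
        exacts [hb, hpre i h])
      (by
        intro i
        rcases hall i with h | h
        · exact Or.inl (List.mem_cons_of_mem _ h)
        · rcases List.mem_cons.1 h with h | h
          exacts [Or.inl (h ▸ List.mem_cons_self), Or.inr h])
    let S : Subgroup (fixList pre) := (fixList (b :: pre)).subgroupOf (fixList pre)
    have hle : fixList (b :: pre) ≤ fixList pre :=
      fun π hπ => ⟨hπ.1, fun a ha => hπ.2 a (List.mem_cons_of_mem _ ha)⟩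
    have hcard : Nat.card S = Nat.card (fixList (b :: pre)) :=
      Nat.card_congr (Subgroup.subgroupOfEquivOfLe hle).toEquiv
    have hwd : ∀ π ρ : fixList pre, (QuotientGroup.leftRel S).r π ρ →
        (π : Equiv.Perm (Fin 52)) bb = (ρ : Equiv.Perm (Fin 52)) bb := by
      intro π ρ h
      rw [QuotientGroup.leftRel_apply, Subgroup.mem_subgroupOf] at h
      have := h.2 bb List.mem_cons_self
      simp only [Subgroup.coe_mul, Subgroup.coe_inv, Equiv.Perm.mul_apply] at this
      rw [Equiv.Perm.inv_eq_iff_eq] at this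
      exact this.symm
    let C : Finset (Fin 52) := Finset.univ.filter fun v => fits pre b v.val = true
    have hC : C.card ≤ candCount pre b := by
      have h1 : (C.map Fin.valEmbedding) ⊆ ((List.range 52).filter (fits pre b)).toFinset := by
        intro x hx
        obtain ⟨v, hv, rfl⟩ := Finset.mem_map.1 hx
        rw [List.mem_toFinset, List.mem_filter]
        exact ⟨List.mem_range.2 v.2, (Finset.mem_filter.1 hv).2⟩
      have h2 := (Finset.card_le_card h1).trans (List.toFinset_card_le _)
      rwa [Finset.card_map] at h2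
    have hmem : ∀ π : fixList pre, (π : Equiv.Perm (Fin 52)) bb ∈ C := by
      intro π
      refine Finset.mem_filter.2 ⟨Finset.mem_univ _, List.all_eq_true.2 fun w hw => ?_⟩
      have hfix := π.2.2 ⟨w, hpre w hw⟩ hw
      have e1 := π.2.1 bb ⟨w, hpre w hw⟩
      have e2 := near_map π.2.1 bb ⟨w, hpre w hw⟩
      rw [hfix] at e1 e2
      simp only [Bool.and_eq_true, beq_iff_eq]
      refine ⟨⟨e1, e2⟩, ?_⟩
      rw [Bool.eq_iff_iff, beq_iff_eq, beq_iff_eq]
      constructor
      · intro h
        have h' : (π : Equiv.Perm (Fin 52)) bb = ⟨w, hpre w hw⟩ := Fin.ext h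
        rw [← hfix] at h'
        exact congrArg Fin.val ((π : Equiv.Perm (Fin 52)).injective h')
      · intro h
        have h' : bb = ⟨w, hpre w hw⟩ := Fin.ext h
        rw [h', hfix]
    let g : fixList pre ⧸ S → C := fun q => Quotient.liftOn' q
      (fun π => ⟨(π : Equiv.Perm (Fin 52)) bb, hmem π⟩) fun π ρ h => Subtype.ext (hwd π ρ h)
    have hg : Function.Injective g := by
      intro q r
      refine Quotient.inductionOn₂' q r fun π ρ h => Quotient.sound' ?_
      have h' := congrArg Subtype.val h
      rw [QuotientGroup.leftRel_apply, Subgroup.mem_subgroupOf]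
      refine ⟨(π⁻¹ * ρ).2.1, fun a ha => ?_⟩
      rcases List.mem_cons.1 ha with ha | ha
      · have ea : a = bb := Fin.ext ha
        subst ea
        simp only [Subgroup.coe_mul, Subgroup.coe_inv, Equiv.Perm.mul_apply]
        rw [Equiv.Perm.inv_eq_iff_eq]
        exact h'.symm
      · exact (π⁻¹ * ρ).2.2 a ha
    have hq : Nat.card (fixList pre ⧸ S) ≤ candCount pre b :=
      ((Nat.card_le_card_of_injective g hg).trans (le_of_eq (Nat.card_eq_finsetCard C))).trans hC
    rw [Subgroup.card_eq_card_quotient_mul_card_subgroup S, hcard]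
    exact Nat.mul_le_mul hq hih

theorem card_flagAut : Nat.card flagAut ≤ 11232 := by
  have h := card_fixList order [] (fun i hi => of_decide_eq_true
      (List.all_eq_true.1 chk_order.2.2 i hi)) (fun i hi => absurd hi List.not_mem_nil)
    (fun i => Or.inr (by
      have := List.all_eq_true.1 chk_order.2.1 i.val (List.mem_range.2 i.2)
      simpa using this))
  have e : fixList [] = flagAut := by
    ext π
    exact ⟨fun h => h.1, fun h => ⟨h, fun a ha => absurd ha List.not_mem_nil⟩⟩
  rw [e] at h
  exact h.trans chk_order.1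

end Cfsg.Agent.L33Graph
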