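import Cfsg.Agent.L33Graph.Code

/-!
Kernel checks about the transvections and the graph on the flags.
-/

set_option autoImplicit false

namespace Cfsg.Agent.L33Graph

/-- A transvection. -/
def tv (a : ℕ) : ℕ := transv.getD a 0

/-- A certificate bit. -/
def rowBit (a b : ℕ) : Bool := (rows.getD a 0).testBit b

/-- Adjacency of flags. -/
def adj (i j : ℕ) : Bool := (adjRows.getD i 0).testBit j

/-- Having a common neighbour. -/
def near (i j : ℕ) : Bool := (nearRows.getD i 0).testBit j

theorem chk_transv_len : transv.length = 104 ∧ rows.length = 104 ∧ transv.Nodup := by decide +kernel

theorem chk_transv : (List.range 104).all (fun a => decide (tv a < 19683) && detC (tv a) == 1 &&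
    detC (transvConj.getD a 0) == 1 &&
    mulC (transvConj.getD a 0) (rep tIdx) == mulC (tv a) (transvConj.getD a 0)) = true := by
  decide +kernel

theorem chk_transv_complete :
    allEnt.all (fun e => entI e != tIdx || transv.contains (entG e)) = true := by
  decide +kernel

theorem chk_cent : centT.all (fun c => decide (c < 19683) && detC c == 1 &&
    mulC c (rep tIdx) == mulC (rep tIdx) c) = true ∧ centT.length = 54 ∧ increasing centT = true := by
  decide +kernel

theorem chk_rows : (List.range 104).all (fun a => (List.range 104).all (fun b =>
    rowBit a b == (mulC (tv a) (tv b) == mulC (tv b) (tv a)))) = true := by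
  decide +kernel

theorem chk_twins : (List.range 104).all (fun a => (List.range 104).all (fun b =>
    (rows.getD a 0 == rows.getD b 0) == (a / 2 == b / 2))) = true ∧
    rows.all (fun r => decide (r < 2 ^ 104)) = true := by
  decide +kernel

theorem chk_adj : (List.range 52).all (fun i => (List.range 52).all (fun j =>
    adj i j == rowBit (2 * i) (2 * j))) = true := by
  decide +kernel

theorem chk_near : (List.range 52).all (fun i => (List.range 52).all (fun j =>
    near i j == (List.range 52).any (fun k => adj i k && adj k j))) = true := by
  decide +kernel

/-- The pattern of `v` relative to a prefix agrees with that of `b`. -/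
def fits (pre : List ℕ) (b v : ℕ) : Bool :=
  pre.all fun w => adj v w == adj b w && near v w == near b w && (v == w) == (b == w)

/-- The number of vertices fitting. -/
def candCount (pre : List ℕ) (b : ℕ) : ℕ := ((List.range 52).filter (fits pre b)).length

/-- The product of the numbers of fitting vertices along a list. -/
def prodCand : List ℕ → List ℕ → ℕ
  | _, [] => 1
  | pre, b :: l => candCount pre b * prodCand (b :: pre) l

theorem chk_order : prodCand [] order ≤ 11232 ∧
    (List.range 52).all (fun i => order.contains i) = true ∧
    order.all (fun i => decide (i < 52)) = true := by
  decide +kernel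

end Cfsg.Agent.L33Graph
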