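import Mathlib
import Cfsg.Agent.L33Graph.Data

/-!
Arithmetic of 3 x 3 matrices over the field with three elements on packed natural numbers.
-/

set_option autoImplicit false

namespace Cfsg.Agent.L33Graph

open Matrix

/-- A digit to the base three. -/
def dig (c i : ℕ) : ℕ := c / 3 ^ i % 3

/-- Packing of nine digits. -/
def pack (a0 a1 a2 a3 a4 a5 a6 a7 a8 : ℕ) : ℕ :=
  a0 + 3 * (a1 + 3 * (a2 + 3 * (a3 + 3 * (a4 + 3 * (a5 + 3 * (a6 + 3 * (a7 + 3 * a8)))))))

/-- An entry of a product. -/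
def ent (a b i j : ℕ) : ℕ :=
  (dig a (3 * i) * dig b j + dig a (3 * i + 1) * dig b (3 + j) +
    dig a (3 * i + 2) * dig b (6 + j)) % 3

/-- The product of two codes. -/
def mulC (a b : ℕ) : ℕ :=
  pack (ent a b 0 0) (ent a b 0 1) (ent a b 0 2) (ent a b 1 0) (ent a b 1 1) (ent a b 1 2)
    (ent a b 2 0) (ent a b 2 1) (ent a b 2 2)

/-- The determinant of a code, as a number modulo three. -/
def detC (c : ℕ) : ℕ :=
  (dig c 0 * (dig c 4 * dig c 8) + dig c 1 * (dig c 5 * dig c 6) + dig c 2 * (dig c 3 * dig c 7) +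
    2 * (dig c 0 * (dig c 5 * dig c 7) + dig c 1 * (dig c 3 * dig c 8) +
      dig c 2 * (dig c 4 * dig c 6))) % 3

/-- The matrix with a given code. -/
def decM (c : ℕ) : Matrix (Fin 3) (Fin 3) (ZMod 3) :=
  Matrix.of fun i j => (dig c (3 * i.val + j.val) : ZMod 3)

theorem ent_lt (a b i j : ℕ) : ent a b i j < 3 := Nat.mod_lt _ (by norm_num)

theorem dig_lt (c i : ℕ) : dig c i < 3 := Nat.mod_lt _ (by norm_num)

theorem mulC_lt (a b : ℕ) : mulC a b < 19683 := by
  have := ent_lt a b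
  unfold mulC pack
  have h0 := this 0 0; have h1 := this 0 1; have h2 := this 0 2
  have h3 := this 1 0; have h4 := this 1 1; have h5 := this 1 2
  have h6 := this 2 0; have h7 := this 2 1; have h8 := this 2 2
  omega

theorem dig_pack {a0 a1 a2 a3 a4 a5 a6 a7 a8 : ℕ} (h0 : a0 < 3) (h1 : a1 < 3) (h2 : a2 < 3)
    (h3 : a3 < 3) (h4 : a4 < 3) (h5 : a5 < 3) (h6 : a6 < 3) (h7 : a7 < 3) (h8 : a8 < 3) :
    dig (pack a0 a1 a2 a3 a4 a5 a6 a7 a8) 0 = a0 ∧ dig (pack a0 a1 a2 a3 a4 a5 a6 a7 a8) 1 = a1 ∧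
    dig (pack a0 a1 a2 a3 a4 a5 a6 a7 a8) 2 = a2 ∧ dig (pack a0 a1 a2 a3 a4 a5 a6 a7 a8) 3 = a3 ∧
    dig (pack a0 a1 a2 a3 a4 a5 a6 a7 a8) 4 = a4 ∧ dig (pack a0 a1 a2 a3 a4 a5 a6 a7 a8) 5 = a5 ∧
    dig (pack a0 a1 a2 a3 a4 a5 a6 a7 a8) 6 = a6 ∧ dig (pack a0 a1 a2 a3 a4 a5 a6 a7 a8) 7 = a7 ∧
    dig (pack a0 a1 a2 a3 a4 a5 a6 a7 a8) 8 = a8 := by
  unfold dig pack
  norm_num
  omega

theorem decM_mulC (a b : ℕ) : decM (mulC a b) = decM a * decM b := by
  obtain ⟨e0, e1, e2, e3, e4, e5, e6, e7, e8⟩ := dig_pack (ent_lt a b 0 0) (ent_lt a b 0 1)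
    (ent_lt a b 0 2) (ent_lt a b 1 0) (ent_lt a b 1 1) (ent_lt a b 1 2) (ent_lt a b 2 0)
    (ent_lt a b 2 1) (ent_lt a b 2 2)
  have key : ∀ i j : Fin 3, dig (mulC a b) (3 * i.val + j.val) = ent a b i.val j.val := by
    intro i j
    fin_cases i <;> fin_cases j <;> simp only [mulC] <;> assumption
  ext i j
  rw [Matrix.mul_apply, Fin.sum_univ_three]
  simp only [decM, Matrix.of_apply, key, ent, ZMod.natCast_mod, Nat.cast_add, Nat.cast_mul]
  simp

theorem decM_inj {a b : ℕ} (ha : a < 19683) (hb : b < 19683) (h : decM a = decM b) : a = b := by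
  have key : ∀ i j : Fin 3, dig a (3 * i.val + j.val) = dig b (3 * i.val + j.val) := by
    intro i j
    have h1 := congrFun (congrFun h i) j
    simp only [decM, Matrix.of_apply] at h1
    have h2 := congrArg ZMod.val h1
    rwa [ZMod.val_natCast, ZMod.val_natCast, Nat.mod_eq_of_lt (dig_lt _ _),
      Nat.mod_eq_of_lt (dig_lt _ _)] at h2
  have e0 := key 0 0; have e1 := key 0 1; have e2 := key 0 2
  have e3 := key 1 0; have e4 := key 1 1; have e5 := key 1 2
  have e6 := key 2 0; have e7 := key 2 1; have e8 := key 2 2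
  simp [dig] at e0 e1 e2 e3 e4 e5 e6 e7 e8
  omega

theorem detC_spec (c : ℕ) : ((detC c : ℕ) : ZMod 3) = (decM c).det := by
  rw [Matrix.det_fin_three]
  simp only [detC, decM, Matrix.of_apply, ZMod.natCast_mod, Nat.cast_add, Nat.cast_mul]
  have h2 : ((2 : ℕ) : ZMod 3) = -1 := by decide
  rw [h2]
  simp
  ring

/-- The certificates. -/
def allEnt : List ℕ := chunks.flatten

/-- The element of a certificate. -/
def entG (e : ℕ) : ℕ := e / 314928

/-- The class index of a certificate. -/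
def entI (e : ℕ) : ℕ := e / 19683 % 16

/-- The conjugator of a certificate. -/
def entK (e : ℕ) : ℕ := e % 19683

/-- The representative of a class. -/
def rep (i : ℕ) : ℕ := reps.getD i 0

/-- Check of a certificate. -/
def chkEnt (e : ℕ) : Bool :=
  entG e < 19683 && detC (entG e) == 1 && detC (entK e) == 1 && entI e < reps.length &&
    mulC (entK e) (rep (entI e)) == mulC (entG e) (entK e)

/-- Strict increase. -/
def increasing : List ℕ → Bool
  | [] => true
  | [_] => true
  | a :: b :: l => a < b && increasing (b :: l)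

theorem chk_ent : chunks.all (fun l => l.all chkEnt) = true := by decide +kernel

theorem chk_incr : increasing (allEnt.map entG) = true := by decide +kernel

theorem chk_length : allEnt.length = 5616 := by decide +kernel

theorem chk_reps : reps.all (fun c => decide (c < 19683) && detC c == 1) = true := by decide +kernel

theorem chk_counts : (List.range reps.length).all (fun i =>
    i == oneIdx || ((if i == tIdx then 104 else 105) ≤ (allEnt.filter (fun e => entI e == i)).length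
      : Bool)) = true := by
  decide +kernel

theorem chk_one : rep oneIdx = pack 1 0 0 0 1 0 0 0 1 ∧ rep tIdx ≠ pack 1 0 0 0 1 0 0 0 1 := by
  decide +kernel

end Cfsg.Agent.L33Graph
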