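import Cfsg.Agent.Classical.LinearBasic
import Cfsg.Agent.ClassGraph.Coprime
import Cfsg.Agent.L33Graph.Checks

/-!
`PSL₃(3)` through codes: centraliser orders and the transvections.
-/

set_option autoImplicit false

namespace Cfsg.Agent.L33Graph

open Matrix

/-- The special linear group of degree three over three elements. -/
abbrev SL33 := Matrix.SpecialLinearGroup (Fin 3) (ZMod 3)

/-- The projective group. -/
abbrev L33 := Matrix.ProjectiveSpecialLinearGroup (Fin 3) (ZMod 3)

instance : Fact (Nat.Prime 3) := ⟨Nat.prime_three⟩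

theorem card_SL33 : Nat.card SL33 = 5616 := by
  have h := Cfsg.Agent.Classical.card_sl_mul (F := ZMod 3) (q := 3) (by rw [ZMod.card]) 3 (by norm_num)
  rw [Fin.prod_univ_three] at h
  change (3 - 1) * Nat.card SL33 = _ at h
  simp only [Fin.isValue, Fin.val_zero, Fin.val_one, Fin.val_two] at h
  norm_num at h
  rw [Nat.card_eq_fintype_card]
  omega

/-- The projection. -/
def proj : SL33 →* L33 := QuotientGroup.mk' _

theorem proj_bijective : Function.Bijective proj := by
  refine ⟨?_, QuotientGroup.mk'_surjective _⟩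
  rw [← MonoidHom.ker_eq_bot_iff, proj, QuotientGroup.ker_mk', Subgroup.eq_bot_iff_card,
    Cfsg.Agent.Classical.card_center_sl, ZMod.card, Fintype.card_fin]
  norm_num

theorem card_L33 : Nat.card L33 = 5616 :=
  (Nat.card_congr (Equiv.ofBijective _ proj_bijective)).symm.trans card_SL33

/-- The element with a given code. -/
noncomputable def el (c : ℕ) : L33 :=
  if h : detC c = 1 then proj ⟨decM c, by rw [← detC_spec, h, Nat.cast_one]⟩ else 1

theorem el_inj {a b : ℕ} (ha : a < 19683) (hb : b < 19683) (ha1 : detC a = 1) (hb1 : detC b = 1)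
    (h : el a = el b) : a = b := by
  simp only [el, dif_pos ha1, dif_pos hb1] at h
  exact decM_inj ha hb (congrArg Subtype.val (proj_bijective.1 h))

theorem el_comm {a b c d : ℕ} (ha : detC a = 1) (hb : detC b = 1) (hc : detC c = 1)
    (hd : detC d = 1) : el a * el b = el c * el d ↔ mulC a b = mulC c d := by
  simp only [el, dif_pos ha, dif_pos hb, dif_pos hc, dif_pos hd, ← map_mul]
  refine (proj_bijective.1.eq_iff).trans ?_
  refine Subtype.ext_iff.trans ?_
  show decM a * decM b = decM c * decM d ↔ mulC a b = mulC c d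
  rw [← decM_mulC, ← decM_mulC]
  exact ⟨decM_inj (mulC_lt _ _) (mulC_lt _ _), congrArg decM⟩

theorem increasing_pairwise : ∀ l : List ℕ, increasing l = true → l.Pairwise (· < ·)
  | [], _ => List.Pairwise.nil
  | [_], _ => List.pairwise_singleton _ _
  | a :: b :: l, h => by
    simp only [increasing, Bool.and_eq_true, decide_eq_true_eq] at h
    have ih := increasing_pairwise (b :: l) h.2
    refine List.Pairwise.cons (fun x hx => ?_) ih
    rcases List.mem_cons.1 hx with rfl | hx
    · exact h.1
    · exact h.1.trans ((List.pairwise_cons.1 ih).1 x hx)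

theorem ent_spec {e : ℕ} (he : e ∈ allEnt) : entG e < 19683 ∧ detC (entG e) = 1 ∧
    detC (entK e) = 1 ∧ entI e < reps.length ∧
      mulC (entK e) (rep (entI e)) = mulC (entG e) (entK e) := by
  obtain ⟨l, hl, hel⟩ := List.mem_flatten.1 he
  have := List.all_eq_true.1 (List.all_eq_true.1 chk_ent l hl) e hel
  simpa [chkEnt, Bool.and_eq_true, and_assoc] using this

theorem rep_spec {i : ℕ} (hi : i < reps.length) : rep i < 19683 ∧ detC (rep i) = 1 := by
  have h : rep i = reps[i] := List.getD_eq_getElem reps 0 hi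
  have := List.all_eq_true.1 chk_reps (rep i) (h ▸ List.getElem_mem hi)
  simpa using this

theorem isConj_of_ent {e : ℕ} (he : e ∈ allEnt) : IsConj (el (rep (entI e))) (el (entG e)) := by
  obtain ⟨_, h2, h3, h4, h5⟩ := ent_spec he
  refine isConj_iff.2 ⟨el (entK e), ?_⟩
  rw [(el_comm h3 (rep_spec h4).2 h2 h3).2 h5, mul_inv_cancel_right]

theorem exists_ent (x : L33) : ∃ e ∈ allEnt, el (entG e) = x := by
  classical
  haveI : Fintype L33 := Fintype.ofFinite _
  let s : Finset L33 := ((allEnt.map entG).map el).toFinset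
  have hnd : ((allEnt.map entG).map el).Nodup := by
    refine List.Nodup.map_on ?_ ((increasing_pairwise _ chk_incr).imp fun h => ne_of_lt h)
    intro a ha b hb hab
    obtain ⟨e, he, rfl⟩ := List.mem_map.1 ha
    obtain ⟨e', he', rfl⟩ := List.mem_map.1 hb
    obtain ⟨h1, h2, _⟩ := ent_spec he
    obtain ⟨h1', h2', _⟩ := ent_spec he'
    exact el_inj h1 h1' h2 h2' hab
  have hs : s = Finset.univ := by
    refine Finset.eq_univ_of_card s ?_
    rw [List.toFinset_card_of_nodup hnd, List.length_map, List.length_map, chk_length,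
      ← Nat.card_eq_fintype_card, card_L33]
  have hx : x ∈ s := hs ▸ Finset.mem_univ x
  simpa [s] using hx

theorem card_conjugatesOf_mul (x : L33) :
    Nat.card (conjugatesOf x) * Nat.card (Subgroup.centralizer ({x} : Set L33)) = 5616 := by
  rw [← card_L33]
  have e1 : Nat.card (conjugatesOf x) = (Subgroup.centralizer ({x} : Set L33)).index :=
    (Nat.card_coe_set_eq _).trans (Cfsg.Agent.ClassGraph.card_conjugatesOf x)
  rw [e1, Subgroup.index_mul_card]

theorem el_count (i : ℕ) (hi : i < reps.length) :
    (allEnt.filter fun e => entI e == i).length ≤ Nat.card (conjugatesOf (el (rep i))) := by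
  classical
  set l := allEnt.filter fun e => entI e == i with hl
  have hsub : List.Sublist (l.map entG) (allEnt.map entG) := List.filter_sublist.map entG
  have hnd : ((l.map entG).map el).Nodup := by
    refine List.Nodup.map_on ?_ (((increasing_pairwise _ chk_incr).imp fun h => ne_of_lt h).sublist hsub)
    intro a ha b hb hab
    obtain ⟨e, he, rfl⟩ := List.mem_map.1 ha
    obtain ⟨e', he', rfl⟩ := List.mem_map.1 hb
    obtain ⟨h1, h2, _⟩ := ent_spec (List.mem_filter.1 he).1
    obtain ⟨h1', h2', _⟩ := ent_spec (List.mem_filter.1 he').1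
    exact el_inj h1 h1' h2 h2' hab
  haveI : Fintype L33 := Fintype.ofFinite _
  rw [Nat.card_eq_fintype_card, ← Set.toFinset_card]
  calc l.length = ((l.map entG).map el).toFinset.card := by
        rw [List.toFinset_card_of_nodup hnd, List.length_map, List.length_map]
    _ ≤ _ := by
        refine Finset.card_le_card fun x hx => ?_
        rw [List.mem_toFinset, List.mem_map] at hx
        obtain ⟨a, ha, rfl⟩ := hx
        obtain ⟨e, he, rfl⟩ := List.mem_map.1 ha
        obtain ⟨he1, he2⟩ := List.mem_filter.1 he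
        rw [Set.mem_toFinset]
        have := isConj_of_ent he1
        rwa [beq_iff_eq.1 he2] at this

theorem card_centralizer_conj {x y : L33} (h : IsConj x y) :
    Nat.card (Subgroup.centralizer ({x} : Set L33)) =
      Nat.card (Subgroup.centralizer ({y} : Set L33)) := by
  have h1 := card_conjugatesOf_mul x
  have h2 := card_conjugatesOf_mul y
  rw [IsConj.conjugatesOf_eq h] at h1
  have hpos : 0 < Nat.card (conjugatesOf y) :=
    Nat.card_pos_iff.2 ⟨⟨⟨y, mem_conjugatesOf_self⟩⟩, inferInstance⟩
  exact Nat.eq_of_mul_eq_mul_left hpos (h1.trans h2.symm)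

/-- The transvections. -/
noncomputable def tel (a : Fin 104) : L33 := el (tv a.val)

theorem tv_spec (a : Fin 104) : tv a.val < 19683 ∧ detC (tv a.val) = 1 := by
  have := List.all_eq_true.1 chk_transv a.val (List.mem_range.2 a.2)
  simp only [Bool.and_eq_true, decide_eq_true_eq, beq_iff_eq] at this
  exact ⟨this.1.1.1, this.1.1.2⟩

theorem tel_inj : Function.Injective tel := by
  intro a b h
  have h' := el_inj (tv_spec a).1 (tv_spec b).1 (tv_spec a).2 (tv_spec b).2 h
  have hl := chk_transv_len.1
  rw [tv, tv, List.getD_eq_getElem _ _ (a.2.trans_eq hl.symm), List.getD_eq_getElem _ _ (b.2.trans_eq hl.symm)] at h'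
  exact Fin.ext ((List.Nodup.getElem_inj_iff chk_transv_len.2.2).1 h')

theorem tel_comm (a b : Fin 104) : Commute (tel a) (tel b) ↔ rowBit a.val b.val = true := by
  have h := List.all_eq_true.1 (List.all_eq_true.1 chk_rows a.val (List.mem_range.2 a.2)) b.val
    (List.mem_range.2 b.2)
  rw [beq_iff_eq.1 h, beq_iff_eq]
  exact el_comm (tv_spec a).2 (tv_spec b).2 (tv_spec b).2 (tv_spec a).2

theorem tel_twin {a b : Fin 104} (h : ∀ c, Commute (tel a) (tel c) ↔ Commute (tel b) (tel c)) :
    a.val / 2 = b.val / 2 := by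
  have hr : ∀ c : Fin 104, rows.getD c.val 0 < 2 ^ 104 := fun c => by
    have hl := chk_transv_len.2.1
    rw [List.getD_eq_getElem _ _ (c.2.trans_eq hl.symm)]
    exact of_decide_eq_true (List.all_eq_true.1 chk_twins.2 _ (List.getElem_mem _))
  have e : rows.getD a.val 0 = rows.getD b.val 0 := by
    refine Nat.eq_of_testBit_eq fun i => ?_
    by_cases hi : i < 104
    · have := h ⟨i, hi⟩
      rw [tel_comm, tel_comm, ← Bool.eq_iff_iff] at this
      exact this
    · have hp : (2 : ℕ) ^ 104 ≤ 2 ^ i := Nat.pow_le_pow_right (by norm_num) (by omega)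
      rw [Nat.testBit_lt_two_pow ((hr a).trans_le hp), Nat.testBit_lt_two_pow ((hr b).trans_le hp)]
  have h2 := List.all_eq_true.1 (List.all_eq_true.1 chk_twins.1 a.val (List.mem_range.2 a.2)) b.val
    (List.mem_range.2 b.2)
  rw [beq_iff_eq, e, beq_self_eq_true] at h2
  exact beq_iff_eq.1 h2.symm

theorem centralizer_le {x : L33} (hx : x ≠ 1) :
    Nat.card (Subgroup.centralizer ({x} : Set L33)) ≤ 54 ∧
      (54 ≤ Nat.card (Subgroup.centralizer ({x} : Set L33)) → ∃ a, tel a = x) := by
  obtain ⟨e, he, rfl⟩ := exists_ent x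
  obtain ⟨h1, h2, h3, h4, h5⟩ := ent_spec he
  have hone : el (rep oneIdx) = 1 := by
    have hd : detC (pack 1 0 0 0 1 0 0 0 1) = 1 := by decide
    rw [chk_one.1, el, dif_pos hd]
    refine (congrArg proj (Subtype.ext ?_)).trans (map_one proj)
    show decM (pack 1 0 0 0 1 0 0 0 1) = 1
    decide
  have hne : entI e ≠ oneIdx := by
    intro h
    apply hx
    have := isConj_of_ent he
    rw [h, hone] at this
    exact isConj_one_right.1 this
  have hc := List.all_eq_true.1 chk_counts (entI e) (List.mem_range.2 h4)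
  rw [Bool.or_eq_true, beq_iff_eq, or_iff_right hne] at hc
  have hc' : (if entI e == tIdx then 104 else 105) ≤
      Nat.card (conjugatesOf (el (rep (entI e)))) :=
    le_trans (of_decide_eq_true hc) (el_count _ h4)
  have hm := card_conjugatesOf_mul (el (rep (entI e)))
  rw [← card_centralizer_conj (isConj_of_ent he)]
  by_cases ht : entI e = tIdx
  · refine ⟨?_, fun _ => ?_⟩
    · rw [ht, beq_self_eq_true, if_pos rfl, ← ht] at hc'
      nlinarith
    · have := List.all_eq_true.1 chk_transv_complete e he
      rw [ht, bne_self_eq_false, Bool.false_or, List.contains_iff_mem] at this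
      obtain ⟨a, ha, hae⟩ := List.getElem_of_mem this
      refine ⟨⟨a, chk_transv_len.1 ▸ ha⟩, ?_⟩
      rw [tel, tv]
      simp only [List.getD_eq_getElem _ _ ha, hae]
  · rw [if_neg (by simpa using ht)] at hc'
    refine ⟨by nlinarith, fun h54 => ?_⟩
    exfalso
    nlinarith

theorem tel_centralizer (a : Fin 104) :
    54 ≤ Nat.card (Subgroup.centralizer ({tel a} : Set L33)) := by
  classical
  have h := List.all_eq_true.1 chk_transv a.val (List.mem_range.2 a.2)
  simp only [Bool.and_eq_true, decide_eq_true_eq, beq_iff_eq] at h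
  have htr := rep_spec (i := tIdx) (by decide)
  have hconj : IsConj (el (rep tIdx)) (tel a) := by
    refine isConj_iff.2 ⟨el (transvConj.getD a.val 0), ?_⟩
    rw [(el_comm h.1.2 htr.2 (tv_spec a).2 h.1.2).2 h.2, mul_inv_cancel_right]
    rfl
  rw [← card_centralizer_conj hconj]
  have hc : ∀ c ∈ centT, c < 19683 ∧ detC c = 1 ∧ mulC c (rep tIdx) = mulC (rep tIdx) c := by
    intro c hc
    have := List.all_eq_true.1 chk_cent.1 c hc
    simpa [Bool.and_eq_true, and_assoc] using this
  have hnd : (centT.map el).Nodup := by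
    refine List.Nodup.map_on ?_ ((increasing_pairwise _ chk_cent.2.2).imp fun h => ne_of_lt h)
    intro p hp q hq hpq
    exact el_inj (hc p hp).1 (hc q hq).1 (hc p hp).2.1 (hc q hq).2.1 hpq
  haveI : Fintype L33 := Fintype.ofFinite _
  calc 54 = (centT.map el).toFinset.card := by
        rw [List.toFinset_card_of_nodup hnd, List.length_map, chk_cent.2.1]
    _ ≤ _ := by
        rw [← SetLike.coe_sort_coe, Nat.card_eq_fintype_card, ← Set.toFinset_card]
        refine Finset.card_le_card fun x hx => ?_
        rw [List.mem_toFinset, List.mem_map] at hx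
        obtain ⟨c, hc1, rfl⟩ := hx
        rw [Set.mem_toFinset, SetLike.mem_coe, Subgroup.mem_centralizer_singleton_iff]
        exact (el_comm htr.2 (hc c hc1).2.1 (hc c hc1).2.1 htr.2).2 (hc c hc1).2.2.symm |>.symm

theorem tel_ne_one (a : Fin 104) : tel a ≠ 1 := by
  intro h
  have h1 := (tel_centralizer a)
  have hd : detC (pack 1 0 0 0 1 0 0 0 1) = 1 := by decide
  have hone : el (pack 1 0 0 0 1 0 0 0 1) = 1 := by
    rw [el, dif_pos hd]
    refine (congrArg proj (Subtype.ext ?_)).trans (map_one proj)
    show decM (pack 1 0 0 0 1 0 0 0 1) = 1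
    decide
  rw [← hone] at h
  have h2 := el_inj (tv_spec a).1 (by decide) (tv_spec a).2 hd h
  have h3 : ∀ b : Fin 104, tv b.val ≠ pack 1 0 0 0 1 0 0 0 1 := by decide +kernel
  exact h3 a h2

end Cfsg.Agent.L33Graph
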