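import Cfsg.Agent.L33Graph.Aut
import Cfsg.Agent.L33Graph.Group

/-!
A group with the commuting graph of `PSL₃(3)` is isomorphic to it: both groups embed, acting by
conjugation on the 52 flags, as subgroups of index at most two of the automorphisms of the flag graph.
-/

set_option autoImplicit false
set_option maxRecDepth 4000

namespace Cfsg.Agent.L33Graph

universe u

/-- The flag of an element, if it is a transvection. -/
noncomputable def flag (x : L33) : Fin 52 :=
  if h : ∃ a, tel a = x then ⟨h.choose.val / 2, by omega⟩ else ⟨0, by norm_num⟩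

theorem flag_tel (a : Fin 104) : flag (tel a) = ⟨a.val / 2, by omega⟩ := by
  have h : ∃ b, tel b = tel a := ⟨a, rfl⟩
  rw [flag, dif_pos h]
  refine Fin.ext ?_
  simp only
  rw [tel_inj h.choose_spec]

/-- The first transvection of a flag. -/
noncomputable def tE (i : Fin 52) : L33 := tel ⟨2 * i.val, by omega⟩

theorem flag_tE (i : Fin 52) : flag (tE i) = i := by
  rw [tE, flag_tel]
  exact Fin.ext (by simp)

/-- The permutations of `L33` preserving commutation and the identity. -/
def graphAut : Subgroup (Equiv.Perm L33) where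
  carrier := {π | π 1 = 1 ∧ ∀ x y, Commute (π x) (π y) ↔ Commute x y}
  one_mem' := ⟨rfl, fun _ _ => Iff.rfl⟩
  mul_mem' := fun {π ρ} hπ hρ => ⟨by rw [Equiv.Perm.mul_apply, hρ.1, hπ.1],
    fun x y => (hπ.2 (ρ x) (ρ y)).trans (hρ.2 x y)⟩
  inv_mem' := fun {π} hπ => ⟨by rw [Equiv.Perm.inv_eq_iff_eq, hπ.1], fun x y => by
    rw [← hπ.2 (π⁻¹ x) (π⁻¹ y)]
    simp⟩

theorem card_centralizer_map {π : Equiv.Perm L33} (hπ : π ∈ graphAut) (x : L33) :
    Nat.card (Subgroup.centralizer ({π x} : Set L33)) =
      Nat.card (Subgroup.centralizer ({x} : Set L33)) := by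
  refine (Nat.card_congr (Equiv.subtypeEquiv π fun y => ?_)).symm
  rw [Subgroup.mem_centralizer_singleton_iff, Subgroup.mem_centralizer_singleton_iff]
  exact (hπ.2 y x).symm

theorem exists_tel_map {π : Equiv.Perm L33} (hπ : π ∈ graphAut) (a : Fin 104) :
    ∃ b, tel b = π (tel a) := by
  refine (centralizer_le fun h => tel_ne_one a (π.injective (h.trans hπ.1.symm))).2 ?_
  rw [card_centralizer_map hπ]
  exact tel_centralizer a

theorem flag_map_eq {π : Equiv.Perm L33} (hπ : π ∈ graphAut) {a a' : Fin 104}
    (h : a.val / 2 = a'.val / 2) : flag (π (tel a)) = flag (π (tel a')) := by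
  obtain ⟨b, hb⟩ := exists_tel_map hπ a
  obtain ⟨b', hb'⟩ := exists_tel_map hπ a'
  rw [← hb, ← hb', flag_tel, flag_tel]
  refine Fin.ext (tel_twin fun c => ?_)
  obtain ⟨d, hd⟩ : ∃ d, π (tel d) = tel c := by
    obtain ⟨d, hd⟩ := exists_tel_map (inv_mem hπ) c
    exact ⟨d, by rw [hd]; simp⟩
  rw [hb, hb', ← hd, hπ.2, hπ.2, tel_comm, tel_comm]
  have h2 := List.all_eq_true.1 (List.all_eq_true.1 chk_twins.1 a.val (List.mem_range.2 a.2)) a'.val
    (List.mem_range.2 a'.2)
  rw [beq_iff_eq, h, beq_self_eq_true, beq_iff_eq] at h2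
  rw [rowBit, rowBit, h2]

/-- The induced map on flags. -/
noncomputable def flagFun (π : graphAut) (i : Fin 52) : Fin 52 :=
  flag ((π : Equiv.Perm L33) (tE i))

theorem flagFun_one : flagFun 1 = id := funext fun i => flag_tE i

theorem flagFun_mul (π ρ : graphAut) : flagFun (π * ρ) = flagFun π ∘ flagFun ρ := by
  funext i
  obtain ⟨b, hb⟩ := exists_tel_map ρ.2 ⟨2 * i.val, by omega⟩
  simp only [Function.comp, flagFun, Subgroup.coe_mul, Equiv.Perm.mul_apply]
  rw [tE, ← hb, flag_tel, tE]
  exact flag_map_eq π.2 (by simp)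

/-- The action on flags. -/
noncomputable def flagPerm : graphAut →* Equiv.Perm (Fin 52) where
  toFun π := ⟨flagFun π, flagFun π⁻¹,
    fun i => by
      have := congrFun (flagFun_mul π⁻¹ π) i
      rw [inv_mul_cancel, flagFun_one] at this
      exact this.symm,
    fun i => by
      have := congrFun (flagFun_mul π π⁻¹) i
      rw [mul_inv_cancel, flagFun_one] at this
      exact this.symm⟩
  map_one' := Equiv.ext fun i => congrFun flagFun_one i
  map_mul' π ρ := Equiv.ext fun i => congrFun (flagFun_mul π ρ) i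

theorem adj_iff (i j : Fin 52) : adj i.val j.val = true ↔ Commute (tE i) (tE j) := by
  have h := List.all_eq_true.1 (List.all_eq_true.1 chk_adj i.val (List.mem_range.2 i.2)) j.val
    (List.mem_range.2 j.2)
  rw [tE, tE, tel_comm, beq_iff_eq.1 h]

theorem flagPerm_mem (π : graphAut) : flagPerm π ∈ flagAut := by
  intro i j
  rw [Bool.eq_iff_iff, adj_iff, adj_iff, ← π.2.2 (tE i) (tE j)]
  obtain ⟨b, hb⟩ := exists_tel_map π.2 ⟨2 * i.val, by omega⟩
  obtain ⟨c, hc⟩ := exists_tel_map π.2 ⟨2 * j.val, by omega⟩
  show Commute (tE (flag _)) (tE (flag _)) ↔ _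
  have fb : flag ((π : Equiv.Perm L33) (tE i)) = ⟨b.val / 2, by omega⟩ := by
    rw [show tE i = tel ⟨2 * i.val, by omega⟩ from rfl, ← hb, flag_tel]
  have fc : flag ((π : Equiv.Perm L33) (tE j)) = ⟨c.val / 2, by omega⟩ := by
    rw [show tE j = tel ⟨2 * j.val, by omega⟩ from rfl, ← hc, flag_tel]
  rw [fb, fc, show (π : Equiv.Perm L33) (tE i) = tel b from hb.symm,
    show (π : Equiv.Perm L33) (tE j) = tel c from hc.symm, tE, tE, tel_comm, tel_comm]
  simp only
  have key : ∀ x y : Fin 104, rowBit (2 * (x.val / 2)) y.val = rowBit x.val y.val := by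
    intro x y
    have hx : 2 * (x.val / 2) < 104 := by omega
    have h2 := List.all_eq_true.1 (List.all_eq_true.1 chk_twins.1 _ (List.mem_range.2 hx)) x.val
      (List.mem_range.2 x.2)
    have e : 2 * (x.val / 2) / 2 = x.val / 2 := by omega
    rw [beq_iff_eq, e, beq_self_eq_true, beq_iff_eq] at h2
    rw [rowBit, rowBit, h2]
  have symm : ∀ x y : Fin 104, rowBit x.val y.val = rowBit y.val x.val := by
    intro x y
    rw [Bool.eq_iff_iff, ← tel_comm, ← tel_comm]
    exact ⟨Commute.symm, Commute.symm⟩
  rw [key b ⟨2 * (c.val / 2), by omega⟩, symm b ⟨2 * (c.val / 2), by omega⟩]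
  simp only
  rw [key c b, symm c b]

/-- A permutation in the kernel squares to the identity on the transvections. -/
theorem sq_fix {π : graphAut} (h : flagPerm π = 1) (a : Fin 104) :
    (π : Equiv.Perm L33) ((π : Equiv.Perm L33) (tel a)) = tel a := by
  have hfl : ∀ x : Fin 104, ∃ y : Fin 104, (π : Equiv.Perm L33) (tel x) = tel y ∧
      y.val / 2 = x.val / 2 := by
    intro x
    obtain ⟨y, hy⟩ := exists_tel_map π.2 x
    refine ⟨y, hy.symm, ?_⟩
    have h1 : flag ((π : Equiv.Perm L33) (tE ⟨x.val / 2, by omega⟩)) = ⟨x.val / 2, by omega⟩ :=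
      Equiv.congr_fun h _
    rw [tE, flag_map_eq π.2 (a' := x) (by simp), ← hy, flag_tel] at h1
    exact congrArg Fin.val h1
  obtain ⟨b, hb, hb2⟩ := hfl a
  obtain ⟨c, hc, hc2⟩ := hfl b
  rw [hb, hc]
  by_cases hab : b = a
  · subst hab; exact hc.symm.trans hb
  · have hcb : c ≠ b := fun e => hab (tel_inj ((π : Equiv.Perm L33).injective (by rw [hc, hb, e])))
    congr 1
    refine Fin.ext ?_
    have : b.val ≠ a.val := fun e => hab (Fin.ext e)
    have : c.val ≠ b.val := fun e => hcb (Fin.ext e)
    omega

section Transfer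

variable {H : Type u} [Group H] (F : H ≃ L33) (h1 : F 1 = 1)
  (hF : ∀ x y, Commute (F x) (F y) ↔ Commute x y)

include h1 hF

theorem conj_mem (h : H) :
    F.permCongr (MulAut.conj h).toEquiv ∈ graphAut := by
  constructor
  · rw [Equiv.permCongr_apply, F.symm_apply_eq.2 h1.symm]
    simp [h1]
  · intro x y
    rw [Equiv.permCongr_apply, Equiv.permCongr_apply, hF]
    refine ((MulAut.conj h).injective.eq_iff (a := F.symm x * F.symm y)
      (b := F.symm y * F.symm x)).symm.trans ?_ |>.symm.trans ?_
    · simp [commute_iff_eq]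
    · rw [← commute_iff_eq, ← hF, F.apply_symm_apply, F.apply_symm_apply]

/-- The action of `H` on flags. -/
noncomputable def act : H →* flagAut where
  toFun h := ⟨flagPerm ⟨_, conj_mem F h1 hF h⟩, flagPerm_mem _⟩
  map_one' := Subtype.ext (by
    show flagPerm _ = 1
    refine Eq.trans ?_ (map_one flagPerm)
    congr 1
    exact Subtype.ext (Equiv.ext fun x => by simp))
  map_mul' a b := Subtype.ext (by
    show flagPerm _ = flagPerm _ * flagPerm _
    rw [← map_mul]
    congr 1
    exact Subtype.ext (Equiv.ext fun x => by simp [mul_assoc]))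

theorem act_injective : Function.Injective (act F h1 hF) := by
  have : Finite H := Finite.of_equiv _ F.symm
  rw [← MonoidHom.ker_eq_bot_iff]
  have hcardH : Nat.card H = 5616 := (Nat.card_congr F).trans card_L33
  have hcc : ∀ x : H, Nat.card (Subgroup.centralizer ({x} : Set H)) =
      Nat.card (Subgroup.centralizer ({F x} : Set L33)) := fun x => by
    refine Nat.card_congr (Equiv.subtypeEquiv F fun y => ?_)
    rw [Subgroup.mem_centralizer_singleton_iff, Subgroup.mem_centralizer_singleton_iff]
    exact (hF y x).symm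
  -- every element of the kernel squares to one
  have hsq : ∀ k ∈ (act F h1 hF).ker, k * k = 1 := by
    intro k hk
    have hp : flagPerm ⟨_, conj_mem F h1 hF k⟩ = 1 := congrArg Subtype.val (MonoidHom.mem_ker.1 hk)
    by_contra hne
    have hne' : F (k * k) ≠ 1 := fun e => hne (F.injective (e.trans h1.symm))
    have hall : ∀ a, tel a ∈ Subgroup.centralizer ({F (k * k)} : Set L33) := by
      intro a
      have e := sq_fix hp a
      simp only [Equiv.permCongr_apply, Equiv.symm_apply_apply] at e
      rw [← F.eq_symm_apply] at e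
      simp only [MulEquiv.toEquiv_eq_coe, EquivLike.coe_coe, MulAut.conj_apply] at e
      rw [Subgroup.mem_centralizer_singleton_iff]
      have e2 : Commute (F.symm (tel a)) (k * k) := by
        rw [commute_iff_eq]
        conv_lhs => rw [← e]
        group
      have := (hF _ _).2 e2
      rwa [F.apply_symm_apply] at this
    have : 104 ≤ Nat.card (Subgroup.centralizer ({F (k * k)} : Set L33)) := by
      have := Nat.card_le_card_of_injective
        (fun a : Fin 104 => (⟨tel a, hall a⟩ : Subgroup.centralizer ({F (k * k)} : Set L33)))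
        (fun a b e => tel_inj (congrArg Subtype.val e))
      rwa [Nat.card_fin] at this
    have := (centralizer_le hne').1
    omega
  by_contra hbot
  obtain ⟨k, hk, hk1⟩ := (Subgroup.bot_or_exists_ne_one _).resolve_left hbot
  set K := (act F h1 hF).ker with hK
  have hC : Nat.card (Subgroup.centralizer ({k} : Set H)) ≤ 54 := by
    rw [hcc]; exact (centralizer_le fun e => hk1 (F.injective (e.trans h1.symm))).1
  have hKC : Nat.card K ≤ Nat.card (Subgroup.centralizer ({k} : Set H)) := by
    refine Subgroup.card_le_of_le fun x hx => Subgroup.mem_centralizer_singleton_iff.2 ?_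
    have ei : ∀ z ∈ K, z⁻¹ = z := fun z hz => inv_eq_of_mul_eq_one_right (hsq z hz)
    calc x * k = (x * k)⁻¹ := (ei _ (mul_mem hx hk)).symm
      _ = k⁻¹ * x⁻¹ := mul_inv_rev _ _
      _ = k * x := by rw [ei k hk, ei x hx]
  have hconj : (Subgroup.centralizer ({k} : Set H)).index ≤ Nat.card K := by
    rw [← Cfsg.Agent.ClassGraph.idx, ← Cfsg.Agent.ClassGraph.card_conjugatesOf,
      ← SetLike.coe_sort_coe, Nat.card_coe_set_eq]
    refine Set.ncard_le_ncard (fun x hx => ?_)
    obtain ⟨c, rfl⟩ := isConj_iff.1 hx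
    exact (inferInstance : K.Normal).conj_mem k hk c
  have hm := Subgroup.index_mul_card (Subgroup.centralizer ({k} : Set H))
  rw [hcardH] at hm
  nlinarith

end Transfer

theorem main {H : Type u} [Group H] (F : H ≃ L33) (h1 : F 1 = 1)
    (hF : ∀ x y, Commute (F x) (F y) ↔ Commute x y) : Nonempty (H ≃* L33) := by
  have : IsSimpleGroup L33 := Cfsg.Agent.Classical.isSimpleGroup_psl (Or.inl (by simp))
  have : Finite H := Finite.of_equiv _ F.symm
  let φ := act F h1 hF
  let ψ := act (Equiv.refl L33) rfl (fun _ _ => Iff.rfl)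
  have hφ : Function.Injective φ := act_injective F h1 hF
  have hψ : Function.Injective ψ := act_injective (Equiv.refl L33) rfl (fun _ _ => Iff.rfl)
  have hcardH : Nat.card H = 5616 := (Nat.card_congr F).trans card_L33
  have hY : Nat.card φ.range = 5616 :=
    (Nat.card_congr (MonoidHom.ofInjective hφ).toEquiv).symm.trans hcardH
  have hA := card_flagAut
  have hi := φ.range.index_mul_card
  rw [hY] at hi
  have hi2 : φ.range.index ≤ 2 := by nlinarith
  have hnorm : φ.range.Normal := by
    rcases (show φ.range.index = 1 ∨ φ.range.index = 2 by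
      have := φ.range.index_ne_zero_of_finite
      omega) with h | h
    · rw [Subgroup.index_eq_one.1 h]; infer_instance
    · exact Subgroup.normal_of_index_eq_two h
  have htop : φ.range.comap ψ = ⊤ := by
    rcases (inferInstance : (φ.range.comap ψ).Normal).eq_bot_or_eq_top with h | h
    · exfalso
      have h3 := Subgroup.index_comap φ.range ψ
      rw [h, Subgroup.index_bot, card_L33] at h3
      have h4 := Subgroup.relIndex_dvd_index_of_normal φ.range ψ.range
      have := Nat.le_of_dvd (Nat.pos_of_ne_zero φ.range.index_ne_zero_of_finite) h4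
      omega
    · exact h
  have hle : ψ.range ≤ φ.range := by
    rintro _ ⟨x, rfl⟩
    exact Subgroup.mem_comap.1 (htop ▸ Subgroup.mem_top x)
  have heq : ψ.range = φ.range := Subgroup.eq_of_le_of_card_ge hle (by
    rw [hY, ← Nat.card_congr (MonoidHom.ofInjective hψ).toEquiv, card_L33])
  exact ⟨((MonoidHom.ofInjective hφ).trans (MulEquiv.subgroupCongr heq.symm)).trans
    (MonoidHom.ofInjective hψ).symm⟩

end Cfsg.Agent.L33Graph
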